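import Cfsg.Agent.Lib.KnownSimple.MultM.U34G.ValC0
import Cfsg.Agent.Lib.KnownSimple.MultC.ValH

/-!
# The relations between the relators
-/

set_option autoImplicit false

namespace Cfsg.Agent.Lib.KnownSimple.MultM.U34G

open Cfsg Cfsg.Spor Cfsg.Agent.Lib.Compute Cfsg.Agent.Lib.KnownSimple.PE Cfsg.Agent.Lib.KnownSimple.Leech
open Cfsg.Agent.Lib.KnownSimple Cfsg.Agent.Lib.KnownSimple.AutRigid Cfsg.Agent.Lib.KnownSimple.Pres
open Cfsg.Agent.Lib.KnownSimple.MultC


theorem hEF : ∀ e, e < n * d → chkEdgeG 4294967296 mskM cKK C.τ d n RL 25 2 21 (lookP parT) (lookP genT) (lg 0 peL) tv e = true := by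
  have h : allBelow fe 6400 = true :=
    allBelow_of_pad (m := 7) (s := 1024) (by norm_num) (fun c hc => by
    interval_cases c
    · exact ve0
    · exact ve1
    · exact ve2
    · exact ve3
    · exact ve4
    · exact ve5
    · exact ve6
  )
  intro e he
  exact (allBelow_iff _ _).1 h e he
set_option maxHeartbeats 0 in
set_option maxRecDepth 100000 in
theorem hLn : allBelow (fun q => Nat.blt (((lg [] RL q).length + 1) * 65536) 4294967296) 25 = true := by decide +kernel
theorem hE : ∀ e, e < n * d → chkEdge C.τ d n RL 25 2 21 (lookP parT) (lookP genT) (lg 0 peL) (toV 4294967296 23 tv) e = true :=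
  chkEdge_of_G (by norm_num) (good_of_mask (W := 32) (b := 16) (by norm_num) (by norm_num) (by norm_num) (by decide +kernel) (by decide +kernel))
    (fun l i hl hi => C.hlt l i hl hi) (fun q _ => words_lg hokR q) (len_of_chk hLn) hEF
set_option maxRecDepth 100000 in
/-- The relations. -/
def rowsF : List (ℕ × ℕ × List ℤ) := [(18,18,[.ofNat 0,.ofNat 0,.ofNat 3,.ofNat 3,.ofNat 4,.ofNat 5,.ofNat 0,.negSucc 0,.ofNat 0,.ofNat 0,.negSucc 0,.negSucc 0,.ofNat 0,.ofNat 0,.ofNat 0,.ofNat 1,.ofNat 0,.ofNat 0,.ofNat 0,.ofNat 0,.ofNat 0,.ofNat 0,.ofNat 0]),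
  (37,7,[.ofNat 0,.negSucc 2,.ofNat 0,.ofNat 0,.ofNat 3,.ofNat 0,.ofNat 0,.ofNat 0,.ofNat 0,.ofNat 0,.ofNat 0,.ofNat 0,.ofNat 0,.ofNat 0,.ofNat 0,.ofNat 0,.ofNat 0,.ofNat 0,.ofNat 0,.ofNat 0,.ofNat 0,.ofNat 0,.ofNat 0]),
  (49,21,[.ofNat 0,.ofNat 0,.ofNat 2,.ofNat 2,.ofNat 2,.ofNat 3,.negSucc 0,.ofNat 1,.ofNat 0,.ofNat 0,.ofNat 1,.negSucc 0,.ofNat 0,.ofNat 1,.ofNat 0,.negSucc 0,.ofNat 1,.ofNat 0,.ofNat 0,.negSucc 0,.ofNat 0,.ofNat 1,.negSucc 1]),
  (71,19,[.ofNat 1,.ofNat 0,.negSucc 1,.negSucc 1,.negSucc 0,.ofNat 0,.ofNat 0,.ofNat 0,.ofNat 0,.ofNat 0,.ofNat 0,.negSucc 1,.ofNat 0,.ofNat 1,.ofNat 0,.ofNat 3,.ofNat 1,.ofNat 0,.ofNat 0,.ofNat 0,.ofNat 0,.negSucc 0,.ofNat 0]),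
  (122,10,[.ofNat 0,.ofNat 0,.negSucc 0,.ofNat 2,.negSucc 1,.ofNat 0,.negSucc 0,.ofNat 1,.ofNat 0,.negSucc 0,.ofNat 0,.ofNat 0,.ofNat 2,.ofNat 0,.ofNat 0,.ofNat 0,.ofNat 0,.ofNat 0,.ofNat 0,.ofNat 0,.ofNat 0,.ofNat 0,.ofNat 0]),
  (166,17,[.ofNat 0,.ofNat 0,.negSucc 1,.ofNat 2,.negSucc 1,.ofNat 9,.ofNat 0,.ofNat 3,.ofNat 0,.ofNat 1,.negSucc 0,.negSucc 0,.ofNat 1,.ofNat 0,.ofNat 0,.ofNat 0,.negSucc 0,.ofNat 0,.ofNat 0,.ofNat 0,.negSucc 0,.ofNat 1,.ofNat 0]),
  (197,20,[.ofNat 0,.ofNat 0,.ofNat 5,.ofNat 4,.negSucc 0,.ofNat 2,.ofNat 0,.negSucc 1,.ofNat 0,.negSucc 0,.negSucc 0,.ofNat 4,.ofNat 0,.ofNat 2,.ofNat 0,.ofNat 1,.negSucc 0,.ofNat 0,.negSucc 0,.ofNat 0,.ofNat 0,.ofNat 0,.ofNat 0]),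
  (237,22,[.ofNat 0,.ofNat 0,.ofNat 0,.ofNat 0,.negSucc 0,.ofNat 3,.ofNat 0,.ofNat 1,.ofNat 0,.ofNat 2,.negSucc 0,.negSucc 0,.ofNat 0,.negSucc 0,.ofNat 0,.ofNat 2,.negSucc 0,.ofNat 0,.ofNat 0,.ofNat 0,.ofNat 0,.ofNat 0,.ofNat 0]),
  (312,20,[.ofNat 0,.ofNat 0,.ofNat 2,.ofNat 3,.ofNat 3,.negSucc 5,.ofNat 0,.negSucc 0,.ofNat 0,.negSucc 0,.ofNat 0,.ofNat 2,.ofNat 0,.negSucc 1,.ofNat 0,.ofNat 2,.ofNat 0,.ofNat 0,.ofNat 0,.ofNat 0,.ofNat 0,.ofNat 1,.ofNat 0]),
  (339,19,[.ofNat 0,.ofNat 0,.negSucc 1,.negSucc 2,.ofNat 3,.ofNat 2,.ofNat 1,.negSucc 0,.ofNat 0,.ofNat 0,.ofNat 0,.negSucc 1,.ofNat 0,.ofNat 0,.ofNat 0,.negSucc 0,.ofNat 0,.ofNat 0,.ofNat 0,.ofNat 1,.ofNat 0,.ofNat 0,.ofNat 1]),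
  (370,8,[.ofNat 1,.ofNat 0,.negSucc 0,.negSucc 0,.negSucc 3,.ofNat 0,.negSucc 0,.negSucc 0,.negSucc 0,.ofNat 1,.ofNat 0,.ofNat 2,.ofNat 2,.ofNat 0,.ofNat 0,.negSucc 2,.ofNat 0,.ofNat 1,.ofNat 1,.ofNat 1,.negSucc 0,.ofNat 2,.negSucc 1]),
  (378,18,[.ofNat 0,.ofNat 0,.ofNat 7,.ofNat 2,.ofNat 8,.ofNat 0,.negSucc 0,.negSucc 1,.ofNat 0,.ofNat 1,.ofNat 1,.negSucc 1,.ofNat 0,.negSucc 1,.ofNat 0,.negSucc 0,.ofNat 0,.ofNat 0,.ofNat 0,.ofNat 0,.ofNat 1,.ofNat 1,.ofNat 0]),
  (399,22,[.ofNat 0,.ofNat 0,.ofNat 2,.ofNat 1,.ofNat 0,.ofNat 3,.ofNat 0,.negSucc 0,.ofNat 0,.ofNat 0,.negSucc 0,.ofNat 1,.ofNat 0,.ofNat 1,.ofNat 0,.ofNat 0,.negSucc 0,.ofNat 0,.ofNat 0,.ofNat 0,.ofNat 0,.ofNat 0,.ofNat 0]),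
  (409,11,[.ofNat 2,.ofNat 0,.ofNat 3,.negSucc 0,.negSucc 4,.negSucc 0,.ofNat 0,.ofNat 0,.negSucc 0,.ofNat 1,.ofNat 1,.ofNat 4,.ofNat 1,.ofNat 1,.ofNat 0,.negSucc 1,.negSucc 0,.ofNat 0,.negSucc 0,.ofNat 1,.negSucc 0,.ofNat 1,.ofNat 0]),
  (481,10,[.ofNat 0,.ofNat 0,.ofNat 0,.negSucc 0,.ofNat 1,.ofNat 0,.ofNat 0,.ofNat 0,.ofNat 0,.ofNat 0,.ofNat 0,.ofNat 0,.ofNat 0,.ofNat 1,.ofNat 0,.ofNat 0,.ofNat 0,.ofNat 0,.ofNat 0,.ofNat 0,.ofNat 0,.ofNat 1,.negSucc 0]),
  (489,13,[.ofNat 0,.ofNat 0,.ofNat 2,.ofNat 0,.negSucc 0,.ofNat 3,.ofNat 0,.ofNat 0,.ofNat 0,.ofNat 2,.ofNat 0,.ofNat 0,.ofNat 0,.ofNat 0,.ofNat 0,.negSucc 0,.ofNat 0,.ofNat 0,.ofNat 0,.ofNat 0,.ofNat 0,.ofNat 0,.ofNat 0]),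
  (552,2,[.ofNat 0,.ofNat 0,.ofNat 1,.negSucc 0,.ofNat 1,.ofNat 0,.ofNat 0,.negSucc 0,.ofNat 0,.ofNat 1,.ofNat 0,.ofNat 0,.ofNat 1,.negSucc 0,.ofNat 0,.ofNat 0,.ofNat 0,.ofNat 0,.ofNat 0,.ofNat 0,.ofNat 0,.ofNat 0,.ofNat 0]),
  (606,16,[.ofNat 0,.ofNat 0,.ofNat 0,.ofNat 6,.negSucc 3,.ofNat 1,.negSucc 0,.ofNat 2,.ofNat 0,.ofNat 0,.negSucc 0,.ofNat 2,.ofNat 0,.ofNat 0,.ofNat 0,.negSucc 0,.ofNat 0,.ofNat 0,.ofNat 1,.ofNat 0,.ofNat 0,.ofNat 1,.negSucc 0]),
  (755,10,[.ofNat 0,.negSucc 2,.ofNat 5,.ofNat 2,.ofNat 3,.negSucc 7,.negSucc 0,.negSucc 0,.ofNat 0,.ofNat 0,.ofNat 0,.ofNat 2,.negSucc 0,.negSucc 0,.ofNat 0,.ofNat 0,.ofNat 0,.ofNat 0,.ofNat 1,.ofNat 0,.ofNat 0,.ofNat 1,.ofNat 0]),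
  (819,11,[.ofNat 0,.ofNat 0,.negSucc 0,.ofNat 0,.ofNat 1,.ofNat 0,.ofNat 0,.ofNat 0,.ofNat 0,.ofNat 0,.ofNat 0,.ofNat 0,.ofNat 1,.ofNat 0,.ofNat 0,.ofNat 0,.ofNat 0,.ofNat 0,.ofNat 0,.ofNat 0,.ofNat 0,.ofNat 1,.negSucc 0]),
  (1204,24,[.ofNat 2,.negSucc 11,.ofNat 6,.ofNat 38,.ofNat 10,.ofNat 27,.negSucc 0,.ofNat 14,.ofNat 1,.ofNat 0,.negSucc 3,.negSucc 2,.negSucc 6,.ofNat 4,.ofNat 0,.ofNat 5,.ofNat 2,.negSucc 0,.negSucc 1,.negSucc 2,.ofNat 5,.negSucc 5,.negSucc 5]),
  (1207,10,[.ofNat 0,.ofNat 0,.negSucc 1,.ofNat 1,.ofNat 1,.ofNat 0,.ofNat 0,.ofNat 0,.ofNat 0,.negSucc 1,.ofNat 0,.ofNat 0,.ofNat 2,.ofNat 0,.ofNat 0,.ofNat 0,.ofNat 0,.ofNat 0,.ofNat 0,.ofNat 0,.ofNat 0,.ofNat 0,.ofNat 0]),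
  (1347,13,[.negSucc 1,.ofNat 3,.negSucc 3,.negSucc 2,.negSucc 1,.negSucc 2,.ofNat 0,.negSucc 2,.ofNat 1,.negSucc 0,.negSucc 0,.negSucc 0,.ofNat 1,.ofNat 0,.ofNat 0,.ofNat 2,.ofNat 1,.ofNat 0,.ofNat 0,.ofNat 0,.ofNat 0,.ofNat 0,.ofNat 1]),
  (1493,2,[.ofNat 0,.ofNat 0,.ofNat 0,.ofNat 1,.ofNat 1,.ofNat 0,.negSucc 0,.ofNat 0,.ofNat 0,.negSucc 0,.ofNat 0,.ofNat 0,.ofNat 0,.ofNat 0,.ofNat 1,.ofNat 0,.ofNat 0,.ofNat 0,.ofNat 0,.ofNat 0,.ofNat 0,.ofNat 0,.ofNat 0])]
set_option maxRecDepth 100000 in
/-- The relations, packed. -/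
def rowsP : List (ℕ × ℕ × ℕ × ℕ) := [(18,18,3121748550315992231381597229793166305748598142664971150859156959625371738819765620120306103063499278668014946765465562757953008726061293802356736,9173994466096273082364193663603369469382772017942979657101675142581752742849796102483255334944568443404288),
  (37,7,1020847100762815390390123822295304634368,12884901888),
  (49,21,19595533242629369747791401605606558418088927130500871652863604799564855490264576058913136904697452922431592445717449441106906096005553239241989306678579793010257185756381813146491900387749360845260324864,168324348849547952231711676253226393283244407887720739917049926152861736921510966146267599034513430725290917261013156902783986003586866962679166026571630331378532749668127405558081598725980133646599343745695481856),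
  (71,19,13407807939307842750522001692519868144869168379169878124574864282495306507788518185398041250118069619437003476197215282090540864419273847262704484650844161,19595533242629369747791401605606558418088927130487463844933662202465281465266200982457647235235547186723938279472588571135073714710434670860084231762161010453964600256434582640360365822603231756757762048),
  (122,10,78804012392788958424558080200287227610159478540957853282563737448286110558081440853502328110517400382769546678763520,497323236409786642155382248153097941835842831561864071597513520236207048415934656020480),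
  (166,17,19595533242629369747791401605606558418088927130487463844933662202465281465266200982457686637241725233214222637940596325504952787540821000048926982079334853075731796128490647315785882317312694547667484672,4562440617622195218641171605700291324906636315178502527678766542897481013336156752326514378689561057495446437797331557656959934831613617254960000186036195652782658558007199198434474317041369088),
  (197,20,3121748550315992231720057885813773588448674758233591067437073291627917114146250843127494366156287724655789234689793329948850554942972310331588608,247330401473104534073910328949589787134705374099417686041542421913489618484257564601074583324635396774747924578439126593683443335444156029690276916843822082429645555605962752),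
  (237,22,6243497100631984462763194459586332611497196285329942301719308565723563050923868964683572998446983906141247570017122421943602959774141708771524608,13407807929942597099574024998375076455489669461933257691046047103000199822576006338408100201828427139263834570845229562120864075629454098361910525333340160),
  (312,20,19595533242629369747791401605606558418088927130487463844939905699565913449728964176917233567847044383009268221774306885054324458188074202100324843968287994396284254799242129807256351214975360784450715648,338460656020607282663380637712778772392640520914121770915922525375309736592895301238205228510757549072278698324423532032819200),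
  (339,19,84162174424773976115855838127144334634438971042549958165077431703758900704207357000217552856842222339353431987177176487938769487340719520782538038361123258551690731526558193047042155207888297943056784537040191488,3121748550315992231381597229793166305766946131592891722952043526787788434346165099980319502693187348890009333760788376188918244363151322459930624),
  (370,8,39191066485258739496645079197093981435087721304710520379246132723318138693826034204344507983201760196331661589186655057392937006734746531904067446353746559067610753191247040134962122133869134072386682881,168324348849547952236274116869786312516252045296041854828838217405457354113736726802230749119780887324686613609143069280047841612458352361939327338518738640504736833450915627610283685043701830316523567978811228160),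
  (378,18,19595533247191810365413596824247730023789218455380692352182222133044473983165476149666324621741441650052383894666174412374824510133945327995909073036786228171892465832979700566527988760164232829899636736,3121748550315992231720057885813773588430326769305670495344186724465500418619932243107488695547708811648357064926019209157236008161387921505517568),
  (399,22,169230328010303641340864313320349672242514882420064339900056351546921007051450444393708122085675742435924124497731191232790528,13407807929942597099574024998205846127479365820592393377725697430757684940155941998508070810228173282852183177971520112092249739682149751068937714703269888),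
  (409,11,19595533242629369748853677591240092615468103543592401099592848437919345311665258489186504060604798104989262008988472662485977530918209705883311682387779524178722225294503342206196342105208608758345760770,4562440617622195218888502007173395858967138836204393214814529876461456047709806141030899626086956770694398788584161858546817019001994516542406052303944597613615526486234352644308893505461157888),
  (481,10,19595533242629369747791401605606558418088927130487463844933662202465281465266370212785657538876860529053866748286691756166750154007045168431761133395727605447780753311298441716360463959034593396484210688,84162174424773976115855838126082058648805436845170781751972494449099714468753293153818664580441415219631727501698851483408310916002940861810045036330430093599283578738055113571066620205377325990605029621316452352),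
  (489,13,994646472819573284310764496293641680205296806506688143635539008284504736572181967798272,3121748550315992231381597229793166305748598142664971150859156959625371738819765620120306103063491971159827271403773543833911439053895717074501632),
  (552,2,39402006196394479212279040100640937041489525912620828916095114244346177922294898611221651170241556959170666843602944,169230328010303641331690318856389386196071598838855992136897051536915033196290371546335457503240829293568405115224676880089088),
  (606,16,19595533242629369747791401605853888819562031664547966365953309392500412814367412822371710291328444411830470146642904972196316759700032396205993705402791966283803162496284027669410123344737075187047989248,84162174424773976115855838126082058648805436845170781751972494449102836217303609146050046177671208385937476099841518590546205993872648628570570971502665008683971162748665652740714739860190662048423877466273087488),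
  (755,10,19595533242629369747791401605853888819562031664547966365953309392500412814367412822371710291328444411830470146642904972196316759700032342286100371101512375488271352146966862637339185972609285613571538944,169230328049705647528084798068668426296215212643935731407362498204869603702283172011695151127423853465368639111295435706204160),
  (819,11,19595533242629369747791401605606558418088927130487463844933662202465281465266200982457686637241725233214222637940595828181716377754178763786838833806575355465021002084037288869694365524396994044748627968,84162174424773976115855838126082058648805436845170781751972494449099714468753293153818664580441415219631727501698851483408310916002940861810045036330430093599283578738055113571066620126149163494787436101482053632),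
  (1204,24,22812203088110976093205858028501456624492958152118293589846690600650372435759352710264818595331054535079735147121601528961783195425622282572128986475571454332081342983717639821528944993141522434,504973046666217056150911247246427589483867234974699577698765719483917088006642282519701814009539462547501537903918527700904427183088727509933531655054240691557961904966709072274319384077837739982172783300501831680),
  (1207,10,78804012392788958424558080200287227610159478540930893335896586808491443542994761505195532676395808920558281292775424,994646472819573284310764496293641680200912301594695434880927953786355887513214170169344),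
  (1347,13,84162174424773976115855838126082058648805436845170781751985902257035900562953499163279633621028520320070013485841117266193851137566070347795846144631700981097489848948240603964759267161570930370870516801396015104,9173994466096273082861516900013156111592074159424101776795849828465812995126224984134188155182215843545090),
  (1493,2,726838724295606890549323807888004534353641360687318060281490199180639288113397923326191050713763905843129521772892155572479626940776448,497323236409786642155382248153097941835842831561183506863671643309261852456997410045952)]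
set_option maxHeartbeats 0 in
set_option maxRecDepth 100000 in
theorem hFm : (rowsP.map fun x => (x.1, x.2.1, decV 4294967296 23 x.2.2.1 x.2.2.2)) = rowsF := by decide +kernel
set_option maxHeartbeats 0 in
set_option maxRecDepth 100000 in
theorem hFb : (rowsP.all fun x => bcond (maskOK mskM cKK x.2.2.1) (maskOK mskM cKK x.2.2.2) false) = true := by decide +kernel
set_option maxHeartbeats 0 in
set_option maxRecDepth 100000 in
theorem hFc : (rowsP.all (chkRowG τ d n RL 25 (n * d) 4801 tv)) = true := by decide +kernel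
theorem hF : ∀ x ∈ rowsF, chkRow C.τ d n RL 25 (n * d) 4801 (toV 4294967296 23 tv) x = true :=
  chkRow_of_G (by norm_num) (good_of_mask (W := 32) (b := 16) (by norm_num) (by norm_num) (by norm_num) (by decide +kernel) (by decide +kernel))
    (fun l i hl hi => C.hlt l i hl hi) (fun q _ => words_lg hokR q) (len_of_chk hLn) hEF rowsP rowsF hFm hFb hFc
set_option maxRecDepth 100000 in
/-- A combination. -/
def cb0 : List (ℕ × ℤ) := [(0,.negSucc 8),(1,.ofNat 11),(2,.negSucc 1),(4,.ofNat 43),(5,.negSucc 0),(6,.negSucc 10),(7,.ofNat 175),(8,.ofNat 150),(9,.negSucc 12),(11,.negSucc 30),(12,.negSucc 164),(13,.ofNat 10),(14,.ofNat 373),(15,.ofNat 344),(16,.ofNat 261),(17,.negSucc 21),(18,.negSucc 0),(19,.negSucc 488),(21,.ofNat 537),(22,.ofNat 10)]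
set_option maxHeartbeats 0 in
set_option maxRecDepth 100000 in
theorem hcb0 : chkComb 2 21 rowsF 0 0 (0) cb0 = true := by decide +kernel
set_option maxRecDepth 100000 in
/-- A combination. -/
def cb1 : List (ℕ × ℤ) := [(0,.ofNat 37),(1,.negSucc 38),(4,.negSucc 150),(5,.ofNat 1),(6,.ofNat 39),(7,.negSucc 638),(8,.negSucc 545),(9,.ofNat 39),(11,.ofNat 113),(12,.ofNat 599),(13,.negSucc 37),(14,.negSucc 1351),(15,.negSucc 1241),(16,.negSucc 954),(17,.ofNat 76),(18,.ofNat 1),(19,.ofNat 1784),(21,.negSucc 1952),(22,.negSucc 37)]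
set_option maxHeartbeats 0 in
set_option maxRecDepth 100000 in
theorem hcb1 : chkComb 2 21 rowsF 0 1 (0) cb1 = true := by decide +kernel
set_option maxRecDepth 100000 in
/-- A combination. -/
def cb2 : List (ℕ × ℤ) := [(0,.negSucc 62),(1,.ofNat 63),(4,.ofNat 251),(5,.ofNat 1),(6,.negSucc 62),(7,.ofNat 1058),(8,.ofNat 906),(9,.negSucc 60),(11,.negSucc 186),(12,.negSucc 995),(13,.ofNat 62),(14,.ofNat 2246),(15,.ofNat 2056),(16,.ofNat 1593),(17,.negSucc 123),(18,.negSucc 0),(19,.negSucc 2963),(21,.ofNat 3239),(22,.ofNat 62)]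
set_option maxHeartbeats 0 in
set_option maxRecDepth 100000 in
theorem hcb2 : chkComb 2 21 rowsF 0 2 (0) cb2 = true := by decide +kernel
set_option maxRecDepth 100000 in
/-- A combination. -/
def cb3 : List (ℕ × ℤ) := [(0,.ofNat 1),(1,.negSucc 0),(3,.ofNat 6),(4,.negSucc 34),(5,.ofNat 3),(6,.ofNat 11),(7,.negSucc 105),(8,.negSucc 89),(9,.ofNat 11),(10,.negSucc 1),(11,.ofNat 23),(12,.ofNat 94),(13,.negSucc 11),(14,.negSucc 217),(15,.negSucc 208),(16,.negSucc 142),(17,.ofNat 30),(18,.negSucc 2),(19,.ofNat 282),(20,.negSucc 1),(21,.negSucc 316),(22,.negSucc 11)]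
set_option maxHeartbeats 0 in
set_option maxRecDepth 100000 in
theorem hcb3 : chkComb 2 21 rowsF 0 3 (0) cb3 = true := by decide +kernel
set_option maxRecDepth 100000 in
/-- A combination. -/
def cb4 : List (ℕ × ℤ) := [(0,.ofNat 72),(1,.negSucc 71),(2,.negSucc 4),(4,.negSucc 278),(6,.ofNat 72),(7,.negSucc 1194),(8,.negSucc 1019),(9,.ofNat 67),(11,.ofNat 211),(12,.ofNat 1118),(13,.negSucc 71),(14,.negSucc 2521),(15,.negSucc 2312),(16,.negSucc 1787),(17,.ofNat 139),(19,.ofNat 3336),(21,.negSucc 3646),(22,.negSucc 71)]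
set_option maxHeartbeats 0 in
set_option maxRecDepth 100000 in
theorem hcb4 : chkComb 2 21 rowsF 0 4 (0) cb4 = true := by decide +kernel
set_option maxRecDepth 100000 in
/-- A combination. -/
def cb5 : List (ℕ × ℤ) := [(0,.negSucc 106),(1,.ofNat 110),(2,.negSucc 2),(4,.ofNat 437),(6,.negSucc 109),(7,.ofNat 1832),(8,.ofNat 1569),(9,.negSucc 109),(11,.negSucc 323),(12,.negSucc 1724),(13,.ofNat 107),(14,.ofNat 3891),(15,.ofNat 3566),(16,.ofNat 2754),(17,.negSucc 216),(18,.negSucc 2),(19,.negSucc 5129),(21,.ofNat 5610),(22,.ofNat 107)]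
set_option maxHeartbeats 0 in
set_option maxRecDepth 100000 in
theorem hcb5 : chkComb 2 21 rowsF 0 5 (0) cb5 = true := by decide +kernel
set_option maxRecDepth 100000 in
/-- A combination. -/
def cb6 : List (ℕ × ℤ) := [(0,.ofNat 110),(1,.negSucc 106),(2,.negSucc 4),(3,.ofNat 17),(4,.negSucc 506),(5,.ofNat 7),(6,.ofNat 133),(7,.negSucc 2074),(8,.negSucc 1763),(9,.ofNat 129),(10,.negSucc 4),(11,.ofNat 377),(12,.ofNat 1938),(13,.negSucc 136),(14,.negSucc 4371),(15,.negSucc 4019),(16,.negSucc 3080),(17,.ofNat 283),(18,.negSucc 8),(19,.ofNat 5763),(20,.negSucc 4),(21,.negSucc 6323),(22,.negSucc 135)]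
set_option maxHeartbeats 0 in
set_option maxRecDepth 100000 in
theorem hcb6 : chkComb 2 21 rowsF 0 6 (0) cb6 = true := by decide +kernel
set_option maxRecDepth 100000 in
/-- A combination. -/
def cb7 : List (ℕ × ℤ) := [(0,.negSucc 37),(1,.ofNat 35),(4,.ofNat 146),(5,.ofNat 3),(6,.negSucc 34),(7,.ofNat 611),(8,.ofNat 525),(9,.negSucc 31),(11,.negSucc 107),(12,.negSucc 578),(13,.ofNat 35),(14,.ofNat 1304),(15,.ofNat 1187),(16,.ofNat 931),(17,.negSucc 69),(19,.negSucc 1720),(21,.ofNat 1875),(22,.ofNat 35)]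
set_option maxHeartbeats 0 in
set_option maxRecDepth 100000 in
theorem hcb7 : chkComb 2 21 rowsF 0 7 (0) cb7 = true := by decide +kernel
set_option maxRecDepth 100000 in
/-- A combination. -/
def cb8 : List (ℕ × ℤ) := [(0,.ofNat 42),(1,.negSucc 46),(3,.ofNat 15),(4,.negSucc 251),(5,.ofNat 10),(6,.ofNat 72),(7,.negSucc 962),(8,.negSucc 821),(9,.ofNat 72),(10,.negSucc 4),(11,.ofNat 181),(12,.ofNat 886),(13,.negSucc 71),(14,.negSucc 2019),(15,.negSucc 1879),(16,.negSucc 1396),(17,.ofNat 158),(18,.negSucc 4),(19,.ofNat 2652),(20,.negSucc 4),(21,.negSucc 2923),(22,.negSucc 71)]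
set_option maxHeartbeats 0 in
set_option maxRecDepth 100000 in
theorem hcb8 : chkComb 2 21 rowsF 0 8 (0) cb8 = true := by decide +kernel
set_option maxRecDepth 100000 in
/-- A combination. -/
def cb9 : List (ℕ × ℤ) := [(0,.negSucc 91),(1,.ofNat 92),(3,.ofNat 9),(4,.ofNat 320),(5,.ofNat 6),(6,.negSucc 76),(7,.ofNat 1410),(8,.ofNat 1209),(9,.negSucc 73),(10,.negSucc 2),(11,.negSucc 242),(12,.negSucc 1335),(13,.ofNat 74),(14,.ofNat 3004),(15,.ofNat 2736),(16,.ofNat 2148),(17,.negSucc 138),(18,.negSucc 5),(19,.negSucc 3972),(20,.negSucc 2),(21,.ofNat 4328),(22,.ofNat 74)]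
set_option maxHeartbeats 0 in
set_option maxRecDepth 100000 in
theorem hcb9 : chkComb 2 21 rowsF 0 9 (0) cb9 = true := by decide +kernel
set_option maxRecDepth 100000 in
/-- A combination. -/
def cb10 : List (ℕ × ℤ) := [(0,.negSucc 67),(1,.ofNat 68),(2,.negSucc 3),(4,.ofNat 278),(5,.ofNat 2),(6,.negSucc 67),(7,.ofNat 1153),(8,.ofNat 990),(9,.negSucc 67),(11,.negSucc 203),(12,.negSucc 1090),(13,.ofNat 66),(14,.ofNat 2460),(15,.ofNat 2248),(16,.ofNat 1746),(17,.negSucc 135),(18,.negSucc 1),(19,.negSucc 3239),(21,.ofNat 3539),(22,.ofNat 66)]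
set_option maxHeartbeats 0 in
set_option maxRecDepth 100000 in
theorem hcb10 : chkComb 2 21 rowsF 0 10 (0) cb10 = true := by decide +kernel
set_option maxRecDepth 100000 in
/-- A combination. -/
def cb11 : List (ℕ × ℤ) := [(0,.negSucc 44),(1,.ofNat 43),(2,.negSucc 2),(4,.ofNat 181),(5,.ofNat 3),(6,.negSucc 42),(7,.ofNat 746),(8,.ofNat 642),(9,.negSucc 41),(11,.negSucc 131),(12,.negSucc 708),(13,.ofNat 42),(14,.ofNat 1598),(15,.ofNat 1455),(16,.ofNat 1138),(17,.negSucc 86),(18,.negSucc 0),(19,.negSucc 2103),(21,.ofNat 2294),(22,.ofNat 42)]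
set_option maxHeartbeats 0 in
set_option maxRecDepth 100000 in
theorem hcb11 : chkComb 2 21 rowsF 0 11 (0) cb11 = true := by decide +kernel
set_option maxRecDepth 100000 in
/-- A combination. -/
def cb12 : List (ℕ × ℤ) := [(0,.negSucc 2),(1,.ofNat 2),(2,.negSucc 4),(4,.ofNat 18),(5,.ofNat 2),(6,.negSucc 1),(7,.ofNat 55),(8,.ofNat 51),(9,.negSucc 3),(11,.negSucc 9),(12,.negSucc 59),(13,.ofNat 1),(14,.ofNat 134),(15,.ofNat 116),(16,.ofNat 98),(17,.negSucc 6),(18,.negSucc 0),(19,.negSucc 168),(21,.ofNat 181),(22,.ofNat 1),(23,.ofNat 1)]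
set_option maxHeartbeats 0 in
set_option maxRecDepth 100000 in
theorem hcb12 : chkComb 2 21 rowsF 0 12 (0) cb12 = true := by decide +kernel
set_option maxRecDepth 100000 in
/-- A combination. -/
def cb13 : List (ℕ × ℤ) := [(0,.negSucc 13),(1,.ofNat 13),(2,.negSucc 1),(3,.ofNat 9),(4,.ofNat 11),(5,.ofNat 6),(6,.ofNat 2),(7,.ofNat 98),(8,.ofNat 87),(9,.ofNat 2),(10,.negSucc 2),(11,.negSucc 10),(12,.negSucc 104),(13,.negSucc 3),(14,.ofNat 227),(15,.ofNat 189),(16,.ofNat 181),(17,.ofNat 15),(18,.negSucc 4),(19,.negSucc 304),(20,.negSucc 2),(21,.ofNat 317),(22,.negSucc 3)]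
set_option maxHeartbeats 0 in
set_option maxRecDepth 100000 in
theorem hcb13 : chkComb 2 21 rowsF 0 13 (0) cb13 = true := by decide +kernel
set_option maxRecDepth 100000 in
/-- A combination. -/
def cb14 : List (ℕ × ℤ) := [(0,.negSucc 49),(1,.ofNat 52),(2,.negSucc 3),(3,.ofNat 12),(4,.ofNat 146),(5,.ofNat 7),(6,.negSucc 31),(7,.ofNat 680),(8,.ofNat 588),(9,.negSucc 31),(10,.negSucc 3),(11,.negSucc 111),(12,.negSucc 655),(13,.ofNat 27),(14,.ofNat 1471),(15,.ofNat 1324),(16,.ofNat 1067),(17,.negSucc 44),(18,.negSucc 8),(19,.negSucc 1946),(20,.negSucc 3),(21,.ofNat 2106),(22,.ofNat 27)]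
set_option maxHeartbeats 0 in
set_option maxRecDepth 100000 in
theorem hcb14 : chkComb 2 21 rowsF 0 14 (0) cb14 = true := by decide +kernel
set_option maxRecDepth 100000 in
/-- A combination. -/
def cb15 : List (ℕ × ℤ) := [(0,.ofNat 16),(1,.negSucc 13),(2,.negSucc 5),(3,.ofNat 19),(4,.negSucc 150),(5,.ofNat 10),(6,.ofNat 46),(7,.negSucc 539),(8,.negSucc 452),(9,.ofNat 42),(10,.negSucc 4),(11,.ofNat 109),(12,.ofNat 486),(13,.negSucc 50),(14,.negSucc 1110),(15,.negSucc 1043),(16,.negSucc 758),(17,.ofNat 113),(18,.negSucc 11),(19,.ofNat 1455),(20,.negSucc 5),(21,.negSucc 1620),(22,.negSucc 49)]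
set_option maxHeartbeats 0 in
set_option maxRecDepth 100000 in
theorem hcb15 : chkComb 2 21 rowsF 0 15 (0) cb15 = true := by decide +kernel
set_option maxRecDepth 100000 in
/-- A combination. -/
def cb16 : List (ℕ × ℤ) := [(0,.negSucc 25),(1,.ofNat 24),(2,.negSucc 3),(3,.ofNat 18),(4,.ofNat 17),(5,.ofNat 11),(6,.ofNat 5),(7,.ofNat 177),(8,.ofNat 156),(9,.ofNat 4),(10,.negSucc 5),(11,.negSucc 18),(12,.negSucc 190),(13,.negSucc 8),(14,.ofNat 410),(15,.ofNat 342),(16,.ofNat 328),(17,.ofNat 31),(18,.negSucc 8),(19,.negSucc 550),(20,.negSucc 5),(21,.ofNat 575),(22,.negSucc 8)]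
set_option maxHeartbeats 0 in
set_option maxRecDepth 100000 in
theorem hcb16 : chkComb 2 21 rowsF 0 16 (0) cb16 = true := by decide +kernel
set_option maxRecDepth 100000 in
/-- A combination. -/
def cb17 : List (ℕ × ℤ) := [(0,.negSucc 19),(1,.ofNat 20),(2,.negSucc 4),(3,.ofNat 15),(4,.ofNat 12),(5,.ofNat 9),(6,.ofNat 5),(7,.ofNat 126),(8,.ofNat 114),(9,.ofNat 4),(10,.negSucc 4),(11,.negSucc 11),(12,.negSucc 139),(13,.negSucc 8),(14,.ofNat 301),(15,.ofNat 247),(16,.ofNat 243),(17,.ofNat 28),(18,.negSucc 8),(19,.negSucc 402),(20,.negSucc 4),(21,.ofNat 415),(22,.negSucc 8)]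
set_option maxHeartbeats 0 in
set_option maxRecDepth 100000 in
theorem hcb17 : chkComb 2 21 rowsF 0 17 (0) cb17 = true := by decide +kernel
set_option maxRecDepth 100000 in
/-- A combination. -/
def cb18 : List (ℕ × ℤ) := [(0,.negSucc 20),(1,.ofNat 21),(2,.negSucc 4),(3,.ofNat 15),(4,.ofNat 11),(5,.ofNat 9),(6,.ofNat 4),(7,.ofNat 129),(8,.ofNat 117),(9,.ofNat 3),(10,.negSucc 4),(11,.negSucc 11),(12,.negSucc 141),(13,.negSucc 8),(14,.ofNat 309),(15,.ofNat 252),(16,.ofNat 251),(17,.ofNat 29),(18,.negSucc 9),(19,.negSucc 414),(20,.negSucc 4),(21,.ofNat 426),(22,.negSucc 8)]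
set_option maxHeartbeats 0 in
set_option maxRecDepth 100000 in
theorem hcb18 : chkComb 2 21 rowsF 0 18 (0) cb18 = true := by decide +kernel
set_option maxRecDepth 100000 in
/-- A combination. -/
def cb19 : List (ℕ × ℤ) := [(0,.ofNat 59),(1,.negSucc 59),(2,.negSucc 4),(3,.ofNat 12),(4,.negSucc 292),(5,.ofNat 8),(6,.ofNat 80),(7,.negSucc 1179),(8,.negSucc 1001),(9,.ofNat 78),(10,.negSucc 3),(11,.ofNat 217),(12,.ofNat 1091),(13,.negSucc 82),(14,.negSucc 2467),(15,.negSucc 2288),(16,.negSucc 1721),(17,.ofNat 174),(18,.negSucc 6),(19,.ofNat 3253),(20,.negSucc 3),(21,.negSucc 3581),(22,.negSucc 82)]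
set_option maxHeartbeats 0 in
set_option maxRecDepth 100000 in
theorem hcb19 : chkComb 2 21 rowsF 0 19 (0) cb19 = true := by decide +kernel
set_option maxRecDepth 100000 in
/-- A combination. -/
def cb20 : List (ℕ × ℤ) := [(0,.negSucc 17),(1,.ofNat 17),(2,.negSucc 3),(3,.ofNat 12),(4,.ofNat 12),(5,.ofNat 9),(6,.ofNat 3),(7,.ofNat 110),(8,.ofNat 102),(9,.ofNat 4),(10,.negSucc 3),(11,.negSucc 10),(12,.negSucc 121),(13,.negSucc 6),(14,.ofNat 267),(15,.ofNat 216),(16,.ofNat 218),(17,.ofNat 23),(18,.negSucc 7),(19,.negSucc 358),(20,.negSucc 3),(21,.ofNat 365),(22,.negSucc 6)]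
set_option maxHeartbeats 0 in
set_option maxRecDepth 100000 in
theorem hcb20 : chkComb 2 21 rowsF 0 20 (0) cb20 = true := by decide +kernel

theorem hcert : ∀ q, q < 21 → ∃ (a : ℤ) (L : List (ℕ × ℤ)), chkComb 2 21 rowsF 0 q a L = true ∧ (q = 0 → a = 1 - ((1 : ℕ) : ℤ)) := by
  intro q hq
  interval_cases q
  · exact ⟨0, cb0, hcb0, by norm_num⟩
  · exact ⟨0, cb1, hcb1, by norm_num⟩
  · exact ⟨0, cb2, hcb2, by norm_num⟩
  · exact ⟨0, cb3, hcb3, by norm_num⟩
  · exact ⟨0, cb4, hcb4, by norm_num⟩
  · exact ⟨0, cb5, hcb5, by norm_num⟩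
  · exact ⟨0, cb6, hcb6, by norm_num⟩
  · exact ⟨0, cb7, hcb7, by norm_num⟩
  · exact ⟨0, cb8, hcb8, by norm_num⟩
  · exact ⟨0, cb9, hcb9, by norm_num⟩
  · exact ⟨0, cb10, hcb10, by norm_num⟩
  · exact ⟨0, cb11, hcb11, by norm_num⟩
  · exact ⟨0, cb12, hcb12, by norm_num⟩
  · exact ⟨0, cb13, hcb13, by norm_num⟩
  · exact ⟨0, cb14, hcb14, by norm_num⟩
  · exact ⟨0, cb15, hcb15, by norm_num⟩
  · exact ⟨0, cb16, hcb16, by norm_num⟩
  · exact ⟨0, cb17, hcb17, by norm_num⟩
  · exact ⟨0, cb18, hcb18, by norm_num⟩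
  · exact ⟨0, cb19, hcb19, by norm_num⟩
  · exact ⟨0, cb20, hcb20, by norm_num⟩


end Cfsg.Agent.Lib.KnownSimple.MultM.U34G
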